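import Cfsg.Agent.Lib.LBalance.Balance
/-!
# Components of involution centralizers inside the layer
-/

set_option autoImplicit false
set_option linter.unusedSectionVars false
set_option linter.style.haveILetI false

namespace Cfsg.Agent.Lib.LBalance

open Subgroup Cfsg Cfsg.Agent.Lib.Components
open scoped commutatorElement

universe u

variable {G : Type u} [Group G] [Finite G]

theorem isComponent_subgroupOf_of_le {L H C : Subgroup G} (h1 : L ≤ H) (h2 : H ≤ C)
    (hL : IsComponent (L.subgroupOf C)) : IsComponent (L.subgroupOf H) := by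
  have h3 := IsComponent.map_mulEquiv (Subgroup.subgroupOfEquivOfLe h2)
    (IsComponent.subgroupOf hL (H := H.subgroupOf C) (fun x hx => h1 hx))
  have e : ((L.subgroupOf C).subgroupOf (H.subgroupOf C)).map
      (Subgroup.subgroupOfEquivOfLe h2).toMonoidHom = L.subgroupOf H := by
    ext x
    constructor
    · rintro ⟨y, hy, rfl⟩; exact hy
    · intro hx
      exact ⟨⟨⟨x, h2 x.2⟩, x.2⟩, hx, rfl⟩
  rwa [e] at h3

/-- A component of `H` lies in, or centralizes, a subgroup normal in `H`. -/
theorem le_or_commute {L H F : Subgroup G} (hLH : L ≤ H) (hL : IsComponent (L.subgroupOf H))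
    (hF : F ≤ H) (hn : H ≤ normalizer (F : Set G)) :
    L ≤ F ∨ ∀ l ∈ L, ∀ f ∈ F, l * f = f * l := by
  have hFn : (F.subgroupOf H).Normal := normal_subgroupOf_of_le_normalizer hn
  rcases IsComponent.le_or_commutator_eq_bot hL hFn.isSubnormal with h | h
  · exact Or.inl fun l hl => h (x := (⟨l, hLH hl⟩ : ↥H)) hl
  · exact Or.inr fun l hl f hf => congrArg Subtype.val
      (commute_of_commutator_eq_bot h (a := (⟨l, hLH hl⟩ : ↥H)) hl
        (b := (⟨f, hF hf⟩ : ↥H)) hf)

theorem le_normalizer_centralizer (D : Subgroup G) : D ≤ normalizer (centralizer (D : Set G) : Set G) :=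
  le_normalizer.trans fun g hg => by
    rw [mem_normalizer_iff_map_conj]
    refine Subgroup.eq_of_le_of_card_ge ?_ (Subgroup.card_map_of_injective (MulAut.conj g).injective).ge
    rintro _ ⟨v, hv, rfl⟩
    show g * v * g⁻¹ ∈ centralizer (D : Set G)
    rw [mem_centralizer_iff]
    intro x hx
    have hx' : g⁻¹ * x * g ∈ D := (mem_normalizer_iff''.mp hg x).mp hx
    have := congrArg (fun z => g * z * g⁻¹) (mem_centralizer_iff.mp hv _ hx')
    simpa [mul_assoc] using this

theorem le_normalizer_commutator (A B : Subgroup G) : A ≤ normalizer ((⁅A, B⁆ : Subgroup G) : Set G) := by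
  intro a ha
  rw [mem_normalizer_iff_map_conj]
  refine Subgroup.eq_of_le_of_card_ge ?_ (Subgroup.card_map_of_injective (MulAut.conj a).injective).ge
  rw [map_le_iff_le_comap, commutator_le]
  intro x hx y hy
  show a * ⁅x, y⁆ * a⁻¹ ∈ ⁅A, B⁆
  rw [show a * ⁅x, y⁆ * a⁻¹ = ⁅a * x, y⁆ * ⁅a, y⁆⁻¹ by simp [commutatorElement_def, mul_assoc]]
  exact mul_mem (commutator_mem_commutator (mul_mem ha hx) hy) (inv_mem (commutator_mem_commutator ha hy))

theorem perfect_of_component_subgroupOf {L C : Subgroup G} (h : L ≤ C)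
    (hL : IsComponent (L.subgroupOf C)) : ⁅L, L⁆ = L := by
  have := congrArg (Subgroup.map C.subtype) (IsComponent.commutator_self hL)
  rwa [map_commutator, map_subgroupOf_eq_of_le h] at this

/-- The position of a component of `C(t)` lying in the layer. -/
theorem component_trichotomy {t : G} (ht : t * t = 1) {L : Subgroup G}
    (hLt : L ≤ centralizer ({t} : Set G)) (hL : IsComponent (L.subgroupOf (centralizer ({t} : Set G))))
    (hLE : L ≤ layer G) :
    ∃ D : Subgroup G, IsComponent D ∧ (L = D ∨ (L < D ∧ D = ⁅D, zpowers t⁆) ∨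
      (D.map (MulAut.conj t).toMonoidHom ≠ D ∧
        L = (layer ↥((D ⊔ D.map (MulAut.conj t).toMonoidHom) ⊓ centralizer ({t} : Set G))).map
          ((D ⊔ D.map (MulAut.conj t).toMonoidHom) ⊓ centralizer ({t} : Set G)).subtype ∧
        ∃ χ : ↥D →* G, χ.range = L ∧ (∀ d : ↥D, χ d = (d : G) * (t * (d : G) * t⁻¹)) ∧
          ∀ d : ↥D, χ d = 1 → (d : G) ∈ (center ↥D).map D.subtype)) := by
  classical
  set C := centralizer ({t} : Set G) with hC
  set H := layer G ⊓ C with hH
  have hLH : L ≤ H := le_inf hLE hLt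
  have hLH' : IsComponent (L.subgroupOf H) := isComponent_subgroupOf_of_le hLH inf_le_right hL
  have hperf := perfect_of_component_subgroupOf hLt hL
  have hLne : ¬ L ≤ centralizer (L : Set G) := by
    intro h
    apply IsComponent.not_isMulCommutative hL
    exact ⟨⟨fun a b => Subtype.ext (Subtype.ext (mem_centralizer_iff.mp (h b.2) _ a.2))⟩⟩
  obtain ⟨D, hD, hLD⟩ : ∃ D : Subgroup G, IsComponent D ∧ ¬ L ≤ centralizer (D : Set G) := by
    by_contra hc
    push Not at hc
    refine hLne (le_centralizer_iff.mp (hLE.trans (layer_le_iff.mpr fun D hD => ?_)))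
    exact le_centralizer_iff.mp (hc D hD)
  have hLN : L ≤ normalizer (D : Set G) := hLE.trans (IsComponent.layer_le_normalizer hD)
  have hDE := IsComponent.le_layer hD
  have htC : ∀ x, x ∈ C ↔ t * x * t⁻¹ = x := fun x => by
    rw [hC, mem_centralizer_singleton_iff, mul_inv_eq_iff_eq_mul, eq_comm]
  have hti : t⁻¹ = t := inv_eq_of_mul_eq_one_right ht
  refine ⟨D, hD, ?_⟩
  by_cases htD : t ∈ normalizer (D : Set G)
  · -- `t` normalizes `D`
    have hn : H ≤ normalizer ((D ⊓ C : Subgroup G) : Set G) := by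
      intro h hh
      rw [mem_normalizer_iff_map_conj]
      refine Subgroup.eq_of_le_of_card_ge ?_ (Subgroup.card_map_of_injective (MulAut.conj h).injective).ge
      rintro _ ⟨v, hv, rfl⟩
      exact Subgroup.mem_inf.mpr ⟨((IsComponent.layer_le_normalizer hD hh.1) v).mp hv.1,
        C.mul_mem (C.mul_mem hh.2 hv.2) (C.inv_mem hh.2)⟩
    rcases le_or_commute hLH hLH' (F := D ⊓ C) (le_inf (inf_le_left.trans hDE) inf_le_right) hn
      with h | h
    · rcases eq_or_lt_of_le (h.trans inf_le_left) with he | hlt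
      · exact Or.inl he
      · refine Or.inr (Or.inl ⟨hlt, ?_⟩)
        by_contra hne
        have hcle : ⁅D, zpowers t⁆ ≤ D := by
          refine (commutator_le).mpr fun d hd u hu => ?_
          have hu' : u ∈ normalizer (D : Set G) := (zpowers_le.mpr htD) hu
          rw [commutatorElement_def, show d * u * d⁻¹ * u⁻¹ = d * (u * d⁻¹ * u⁻¹) by group]
          exact mul_mem hd ((hu' _).mp (inv_mem hd))
        have hnorm : ((⁅D, zpowers t⁆).subgroupOf D).Normal :=
          normal_subgroupOf_of_le_normalizer (le_normalizer_commutator D (zpowers t))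
        rcases IsQuasisimple.subnormal_eq_top_or_le_center hD.2 _ hnorm.isSubnormal with htop | hcen
        · exact hne (le_antisymm (subgroupOf_eq_top.mp htop) hcle)
        · -- then `t` centralizes `D`
          have h1 : t ∈ centralizer (D : Set G) := by
            refine mem_centralizer_of_perfect (IsComponent.commutator_self hD) fun d hd => ?_
            have hmem : ⁅d, t⁆ ∈ ⁅D, zpowers t⁆ := commutator_mem_commutator hd (mem_zpowers t)
            have := hcen (x := (⟨_, hcle hmem⟩ : ↥D)) hmem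
            rw [show t * d * t⁻¹ * d⁻¹ = ⁅d, t⁆⁻¹ by rw [commutatorElement_def]; group]
            exact mem_map_center_iff.mpr ⟨inv_mem (hcle hmem), fun l hl => by
              have h2 := congrArg Subtype.val (mem_center_iff.mp (inv_mem this) ⟨l, hl⟩)
              simpa using h2⟩
          have hDC : D ≤ C := by
            intro d hd
            rw [hC, mem_centralizer_singleton_iff]
            exact mem_centralizer_iff.mp h1 d hd
          exact hlt.ne (le_antisymm hlt.le fun d hd => by
            have e := IsComponent.eq_of_le hL (IsComponent.subgroupOf hD hDC) (fun x hx => hlt.le hx)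
            exact e.ge (x := (⟨d, hDC hd⟩ : ↥C)) hd)
    · exfalso
      apply hLD
      have hdec : ∀ l ∈ L, ∃ d ∈ D, ∃ c ∈ centralizer (D : Set G), l = d * c := by
        intro l hl
        have h1 : l ∈ D ⊔ centralizer (D : Set G) := by
          refine (layer_le_iff.mpr fun M hM => ?_ : layer G ≤ _) (hLE hl)
          by_cases hMD : M = D
          · exact hMD.le.trans le_sup_left
          · exact (le_centralizer_of_commutator_eq_bot
              (IsComponent.commutator_eq_bot_of_ne hM hD hMD)).trans le_sup_right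
        rw [← SetLike.mem_coe, coe_mul_of_right_le_normalizer_left _ _ (centralizer_le_normalizer _)] at h1
        obtain ⟨d, hd, c, hc, rfl⟩ := h1
        exact ⟨d, hd, c, hc, rfl⟩
      have hid : ∀ d ∈ D, ∀ e ∈ D, ∀ c ∈ centralizer (D : Set G), ∀ f ∈ centralizer (D : Set G),
          ⁅d * c, e * f⁆ = ⁅d, e⁆ * ⁅c, f⁆ := by
        intro d hd e he c hc f hf
        have h1 : Commute d c := mem_centralizer_iff.mp hc d hd
        have h2 : Commute e c := mem_centralizer_iff.mp hc e he
        have h3 : Commute d f := mem_centralizer_iff.mp hf d hd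
        have h4 : Commute e f := mem_centralizer_iff.mp hf e he
        have hde : Commute (c * f) (d⁻¹ * e⁻¹) :=
          ((h1.inv_left.symm).mul_left (h3.inv_left.symm)).mul_right
            ((h2.inv_left.symm).mul_left (h4.inv_left.symm))
        simp only [commutatorElement_def, mul_inv_rev]
        calc d * c * (e * f) * (c⁻¹ * d⁻¹) * (f⁻¹ * e⁻¹)
            = d * (c * e) * f * c⁻¹ * (d⁻¹ * f⁻¹) * e⁻¹ := by simp only [mul_assoc]
          _ = d * (e * c) * f * c⁻¹ * (f⁻¹ * d⁻¹) * e⁻¹ := by
            rw [h2.symm.eq, (h3.inv_inv).eq]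
          _ = d * e * (c * f * c⁻¹ * f⁻¹ * (d⁻¹ * e⁻¹)) := by simp only [mul_assoc]
          _ = d * e * ((d⁻¹ * e⁻¹) * (c * f * c⁻¹ * f⁻¹)) := by
            congr 1
            refine Commute.eq ?_
            refine Commute.mul_right ?_ ?_
            · exact ((((h1.inv_left).symm.mul_left h3.inv_left.symm).mul_left h1.inv_inv.symm).mul_left
                h3.inv_inv.symm)
            · exact ((((h2.inv_left).symm.mul_left h4.inv_left.symm).mul_left h2.inv_inv.symm).mul_left
                h4.inv_inv.symm)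
          _ = _ := by simp only [mul_assoc]
      -- the components in `D` may be taken fixed modulo the centre
      set P := (D ⊓ C) ⊔ centralizer (D : Set G) with hP
      have hfix : ∀ l ∈ L, ∀ d ∈ D, ∀ c ∈ centralizer (D : Set G), l = d * c →
          t * d * t⁻¹ * d⁻¹ ∈ D ∧ ∀ e ∈ D, Commute e (t * d * t⁻¹ * d⁻¹) := by
        intro l hl d hd c hc he
        refine ⟨mul_mem ((htD d).mp hd) (inv_mem hd), fun e hed => ?_⟩
        have hlt' : t * l * t⁻¹ = l := (htC l).mp (hLt hl)
        have hc' : t * c * t⁻¹ ∈ centralizer (D : Set G) := by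
          rw [mem_centralizer_iff]
          intro x hx
          have hx' : t⁻¹ * x * t ∈ D := (mem_normalizer_iff''.mp htD x).mp hx
          have := congrArg (fun z => t * z * t⁻¹) (mem_centralizer_iff.mp hc _ hx')
          simpa [mul_assoc] using this
        have key : t * d * t⁻¹ * d⁻¹ = d * (c * (t * c * t⁻¹)⁻¹) * d⁻¹ := by
          have h5 : t * d * t⁻¹ = l * (t * c * t⁻¹)⁻¹ := by
            rw [← hlt', he]; group
          rw [h5, he]; group
        have hcc : c * (t * c * t⁻¹)⁻¹ ∈ centralizer (D : Set G) := mul_mem hc (inv_mem hc')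
        rw [key, mem_centralizer_iff.mp hcc d hd, mul_inv_cancel_right]
        exact mem_centralizer_iff.mp hcc e hed
      have hLP : L ≤ P := by
        rw [← hperf, commutator_le]
        intro l hl m hm
        obtain ⟨d, hd, c, hc, rfl⟩ := hdec l hl
        obtain ⟨e, he, f, hf, rfl⟩ := hdec m hm
        rw [hid d hd e he c hc f hf]
        obtain ⟨hzd, hzd'⟩ := hfix _ hl d hd c hc rfl
        obtain ⟨hze, hze'⟩ := hfix _ hm e he f hf rfl
        refine mul_mem_sup ⟨?_, ?_⟩ ((commutator_le.mpr fun a ha b hb => ?_ : ⁅centralizer (D : Set G), centralizer (D : Set G)⁆ ≤ _) (commutator_mem_commutator hc hf))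
        · exact D.mul_mem (D.mul_mem (D.mul_mem hd he) (D.inv_mem hd)) (D.inv_mem he)
        · show ⁅d, e⁆ ∈ C
          rw [htC]
          have e1 : t * d * t⁻¹ = (t * d * t⁻¹ * d⁻¹) * d := by group
          have e2 : t * e * t⁻¹ = (t * e * t⁻¹ * e⁻¹) * e := by group
          set u := t * d * t⁻¹ * d⁻¹
          set v := t * e * t⁻¹ * e⁻¹
          clear_value u v
          calc t * ⁅d, e⁆ * t⁻¹ = (t * d * t⁻¹) * (t * e * t⁻¹) * (t * d * t⁻¹)⁻¹ * (t * e * t⁻¹)⁻¹ := by
                simp [commutatorElement_def, mul_assoc]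
            _ = (d * u) * (e * v) * (u⁻¹ * d⁻¹) * (v⁻¹ * e⁻¹) := by
                have e1' : t * d * t⁻¹ = d * u := e1.trans (hzd' d hd).eq.symm
                have e2' : t * e * t⁻¹ = e * v := e2.trans (hze' e he).eq.symm
                rw [e1', e2', mul_inv_rev, mul_inv_rev]
            _ = d * (u * (e * v)) * u⁻¹ * d⁻¹ * v⁻¹ * e⁻¹ := by simp only [mul_assoc]
            _ = d * (e * v * u) * u⁻¹ * d⁻¹ * v⁻¹ * e⁻¹ := by
                rw [((hzd' _ (mul_mem he hze))).eq]
            _ = d * e * (v * d⁻¹) * v⁻¹ * e⁻¹ := by simp [mul_assoc]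
            _ = ⁅d, e⁆ := by
                rw [← (hze' _ (inv_mem hd)).eq]
                simp [commutatorElement_def, mul_assoc]
        · rw [commutatorElement_def]
          exact mul_mem (mul_mem (mul_mem ha hb) (inv_mem ha)) (inv_mem hb)
      have hPdec : ∀ l ∈ L, ∃ d ∈ D ⊓ C, ∃ c ∈ centralizer (D : Set G), l = d * c := by
        intro l hl
        have h1 := hLP hl
        rw [hP, ← SetLike.mem_coe, coe_mul_of_left_le_normalizer_right _ _
          (inf_le_left.trans (le_normalizer_centralizer D))] at h1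
        obtain ⟨d, hd, c, hc, rfl⟩ := h1
        exact ⟨d, hd, c, hc, rfl⟩
      rw [← hperf, commutator_le]
      intro l hl m hm
      obtain ⟨d, hd, c, hc, rfl⟩ := hPdec l hl
      obtain ⟨e, he, f, hf, rfl⟩ := hPdec m hm
      rw [hid d hd.1 e he.1 c hc f hf]
      have h1 : d * c * e = e * (d * c) := h _ hl e he
      rw [mul_assoc, ← mem_centralizer_iff.mp hc e he.1, ← mul_assoc, ← mul_assoc, mul_left_inj] at h1
      rw [show ⁅d, e⁆ = 1 from commutatorElement_eq_one_iff_commute.mpr h1, one_mul, commutatorElement_def]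
      exact mul_mem (mul_mem (mul_mem hc hf) (inv_mem hc)) (inv_mem hf)
  · -- `D` is moved by `t`
    set D' := D.map (MulAut.conj t).toMonoidHom with hD'
    have hne : D' ≠ D := fun h => htD (mem_normalizer_iff_map_conj.mpr h)
    have hD'c : IsComponent D' := IsComponent.map_conj hD t
    have hcm : ∀ a ∈ D, ∀ b ∈ D', Commute a b := fun a ha b hb =>
      commute_of_commutator_eq_bot (IsComponent.commutator_eq_bot_of_ne hD hD'c hne.symm) ha hb
    have hmem' : ∀ a ∈ D, t * a * t⁻¹ ∈ D' := fun a ha => ⟨a, ha, rfl⟩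
    let χ : ↥D →* G :=
      { toFun := fun d => (d : G) * (t * (d : G) * t⁻¹)
        map_one' := by simp
        map_mul' := fun a b => by
          have := (hcm _ b.2 _ (hmem' _ a.2)).eq
          calc ((a * b : ↥D) : G) * (t * ((a * b : ↥D) : G) * t⁻¹)
              = (a : G) * ((b : G) * (t * (a : G) * t⁻¹)) * (t * (b : G) * t⁻¹) := by simp [mul_assoc]
            _ = (a : G) * ((t * (a : G) * t⁻¹) * (b : G)) * (t * (b : G) * t⁻¹) := by rw [this]
            _ = (a : G) * (t * (a : G) * t⁻¹) * ((b : G) * (t * (b : G) * t⁻¹)) := by simp only [mul_assoc] }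
    set Y := D ⊔ D' with hY
    have hYD : ∀ y ∈ Y, ∃ a ∈ D, ∃ b ∈ D', y = a * b := by
      intro y hy
      rw [hY, ← SetLike.mem_coe, coe_mul_of_right_le_normalizer_left _ _
        ((IsComponent.le_layer hD'c).trans (IsComponent.layer_le_normalizer hD))] at hy
      obtain ⟨a, ha, b, hb, rfl⟩ := hy
      exact ⟨a, ha, b, hb, rfl⟩
    have hYE : Y ≤ layer G := sup_le hDE (IsComponent.le_layer hD'c)
    have htt : ∀ v, t * (t * v * t⁻¹) * t⁻¹ = v := fun v => by
      rw [hti, show t * (t * v * t) * t = (t * t) * v * (t * t) by group, ht, one_mul, mul_one]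
    have hχC : χ.range ≤ Y ⊓ C := by
      rintro _ ⟨d, rfl⟩
      refine Subgroup.mem_inf.mpr ⟨mul_mem_sup d.2 (hmem' _ d.2), (htC _).mpr ?_⟩
      show t * ((d : G) * (t * (d : G) * t⁻¹)) * t⁻¹ = (d : G) * (t * (d : G) * t⁻¹)
      rw [show t * ((d : G) * (t * (d : G) * t⁻¹)) * t⁻¹ =
        (t * (d : G) * t⁻¹) * (t * (t * (d : G) * t⁻¹) * t⁻¹) by group, htt]
      exact (hcm _ d.2 _ (hmem' _ d.2)).symm
    -- elements of `D` which are in `D'` are central
    have hint : ∀ z ∈ D, z ∈ D' → z ∈ centralizer (D : Set G) := fun z _ hz' =>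
      mem_centralizer_iff.mpr fun e he => hcm e he z hz'
    have hYn : H ≤ normalizer ((Y ⊓ C : Subgroup G) : Set G) := by
      intro h hh
      rw [mem_normalizer_iff_map_conj]
      refine Subgroup.eq_of_le_of_card_ge ?_ (Subgroup.card_map_of_injective (MulAut.conj h).injective).ge
      rintro _ ⟨v, hv, rfl⟩
      refine Subgroup.mem_inf.mpr ⟨?_, C.mul_mem (C.mul_mem hh.2 hv.2) (C.inv_mem hh.2)⟩
      obtain ⟨a, ha, b, hb, rfl⟩ := hYD v hv.1
      show h * (a * b) * h⁻¹ ∈ Y
      rw [show h * (a * b) * h⁻¹ = (h * a * h⁻¹) * (h * b * h⁻¹) by group]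
      exact mul_mem_sup (((IsComponent.layer_le_normalizer hD hh.1) a).mp ha)
        (((IsComponent.layer_le_normalizer hD'c hh.1) b).mp hb)
    rcases le_or_commute hLH hLH' (F := Y ⊓ C) (le_inf (inf_le_left.trans hYE) inf_le_right) hYn
      with h | h
    · -- the layer of the fixed points is the diagonal
      set W := Y ⊓ C with hW
      have hLW : IsComponent (L.subgroupOf W) := isComponent_subgroupOf_of_le h inf_le_right hL
      have hχker : ∀ d : ↥D, χ d = 1 → (d : G) ∈ (center ↥D).map D.subtype := by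
        intro d hd
        have h1 : (d : G) = (t * (d : G) * t⁻¹)⁻¹ := eq_inv_of_mul_eq_one_left hd
        exact mem_map_center_iff.mpr ⟨d.2, fun l hl => (mem_centralizer_iff.mp
          (hint _ d.2 (h1 ▸ inv_mem (hmem' _ d.2))) l hl)⟩
      have hWdec : ∀ y ∈ W, ∀ y' ∈ W, ⁅y, y'⁆ ∈ χ.range := by
        have hsplit : ∀ y ∈ W, ∃ d : ↥D, ∃ z ∈ centralizer (Y : Set G), y = χ d * z := by
          intro y hy
          obtain ⟨a, ha, b, hb, rfl⟩ := hYD y hy.1
          obtain ⟨b', hb', rfl⟩ := hb
          refine ⟨⟨a, ha⟩, (χ ⟨a, ha⟩)⁻¹ * (a * (MulAut.conj t).toMonoidHom b'), ?_, (mul_inv_cancel_left _ _).symm⟩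
          have h1 : t * (a * (t * b' * t⁻¹)) * t⁻¹ = a * (t * b' * t⁻¹) := (htC _).mp hy.2
          rw [show t * (a * (t * b' * t⁻¹)) * t⁻¹ = (t * a * t⁻¹) * (t * (t * b' * t⁻¹) * t⁻¹) by group,
            htt, ← (hcm b' hb' _ (hmem' a ha)).eq] at h1
          -- `a⁻¹ b'` is central
          have hz : a⁻¹ * b' ∈ centralizer (D : Set G) := by
            refine hint _ (mul_mem (inv_mem ha) hb') ?_
            have h2 : a⁻¹ * b' = (t * b' * t⁻¹) * (t * a * t⁻¹)⁻¹ := by
              rw [← inv_mul_eq_iff_eq_mul.mpr h1]; group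
            rw [h2]
            exact mul_mem (hmem' _ hb') (inv_mem (hmem' _ ha))
          have hval : (χ ⟨a, ha⟩)⁻¹ * (a * (MulAut.conj t).toMonoidHom b') = t * (a⁻¹ * b') * t⁻¹ := by
            show (a * (t * a * t⁻¹))⁻¹ * (a * (t * b' * t⁻¹)) = _
            group
          rw [hval, hY, mem_centralizer_iff]
          intro v hv
          obtain ⟨c, hc, f, hf, rfl⟩ := hYD v hv
          obtain ⟨f', hf', rfl⟩ := hf
          have k1 : Commute c (t * (a⁻¹ * b') * t⁻¹) := hcm c hc _ (hmem' _ (mul_mem (inv_mem ha) hb'))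
          have k2 : Commute ((MulAut.conj t).toMonoidHom f') (t * (a⁻¹ * b') * t⁻¹) := by
            exact (show Commute f' (a⁻¹ * b') from mem_centralizer_iff.mp hz f' hf').map (MulAut.conj t).toMonoidHom
          exact (k1.mul_left k2).eq
        intro y hy y' hy'
        obtain ⟨d, z, hz, rfl⟩ := hsplit y hy
        obtain ⟨d', z', hz', rfl⟩ := hsplit y' hy'
        have hcz : ∀ w ∈ centralizer (Y : Set G), ∀ v ∈ Y, Commute v w := fun w hw v hv =>
          mem_centralizer_iff.mp hw v hv
        have hzY : z ∈ Y := by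
          have := Y.mul_mem (Y.inv_mem (hχC ⟨d, rfl⟩).1) hy.1
          rwa [inv_mul_cancel_left] at this
        have hzY' : z' ∈ Y := by
          have := Y.mul_mem (Y.inv_mem (hχC ⟨d', rfl⟩).1) hy'.1
          rwa [inv_mul_cancel_left] at this
        refine ⟨⁅d, d'⁆, ?_⟩
        rw [map_commutatorElement]
        set u := χ d
        set v := χ d'
        have huY : u ∈ Y := (hχC ⟨d, rfl⟩).1
        have hvY : v ∈ Y := (hχC ⟨d', rfl⟩).1
        simp only [commutatorElement_def, mul_inv_rev]
        calc u * v * u⁻¹ * v⁻¹ = u * v * u⁻¹ * (z * z⁻¹) * (z' * z'⁻¹) * v⁻¹ := by simp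
          _ = u * v * (u⁻¹ * z) * (z⁻¹ * z') * z'⁻¹ * v⁻¹ := by simp only [mul_assoc]
          _ = u * v * (z * u⁻¹) * (z' * z⁻¹) * z'⁻¹ * v⁻¹ := by
              rw [(hcz z hz _ (inv_mem huY)).eq, (hcz z' hz' _ (inv_mem hzY)).eq]
          _ = u * (v * z) * (u⁻¹ * z') * z⁻¹ * z'⁻¹ * v⁻¹ := by simp only [mul_assoc]
          _ = u * (z * v) * (z' * u⁻¹) * z⁻¹ * z'⁻¹ * v⁻¹ := by
              rw [(hcz z hz _ hvY).eq, (hcz z' hz' _ (inv_mem huY)).eq]
          _ = u * z * (v * z') * (u⁻¹ * z⁻¹) * (z'⁻¹ * v⁻¹) := by simp only [mul_assoc]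
          _ = _ := by rw [(hcz _ (inv_mem hz) _ (inv_mem huY)).eq]
      have hΔn : (χ.range.subgroupOf W).Normal := ⟨fun x hx w => by
        show ((w * x * w⁻¹ : ↥W) : G) ∈ χ.range
        rw [show ((w * x * w⁻¹ : ↥W) : G) = ⁅(w : G), (x : G)⁆ * (x : G) by
          simp [commutatorElement_def, mul_assoc]]
        exact mul_mem (hWdec _ w.2 _ x.2) hx⟩
      have hΔne : χ.range ≠ ⊥ := by
        intro hb
        apply IsComponent.not_isMulCommutative hD
        refine ⟨⟨fun a b => Subtype.ext ?_⟩⟩
        have := (mem_map_center_iff.mp (hχker a ((hb.le ⟨a, rfl⟩ : χ a ∈ (⊥ : Subgroup G))))).2 b b.2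
        exact this.symm
      have hΔ : IsComponent (χ.range.subgroupOf W) := by
        refine ⟨hΔn.isSubnormal, IsQuasisimple.of_mulEquiv
          (Subgroup.subgroupOfEquivOfLe hχC).symm ?_⟩
        haveI : Nontrivial ↥χ.range := (Subgroup.nontrivial_iff_ne_bot _).mpr hΔne
        exact IsQuasisimple.of_surjective hD.2 (f := χ.rangeRestrict) χ.rangeRestrict_surjective
      have hall : ∀ M : Subgroup ↥W, IsComponent M → M = χ.range.subgroupOf W := by
        intro M hM
        by_contra hMne
        apply IsComponent.not_isMulCommutative hM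
        have hM' : M ≤ χ.range.subgroupOf W := by
          rw [← IsComponent.commutator_self hM, commutator_le]
          exact fun a _ b _ => hWdec _ a.2 _ b.2
        exact ⟨⟨fun a b => Subtype.ext (commute_of_commutator_eq_bot
          (IsComponent.commutator_eq_bot_of_ne hM hΔ hMne) a.2 (hM' b.2))⟩⟩
      have hlay : layer ↥W = χ.range.subgroupOf W :=
        le_antisymm (layer_le_iff.mpr fun M hM => (hall M hM).le) (IsComponent.le_layer hΔ)
      have hLeq : L = χ.range := by
        rw [← map_subgroupOf_eq_of_le h, hall _ hLW, map_subgroupOf_eq_of_le hχC]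
      refine Or.inr (Or.inr ⟨hne, ?_, χ, hLeq.symm, fun _ => rfl, hχker⟩)
      rw [hlay, map_subgroupOf_eq_of_le hχC, hLeq]
    · exfalso
      apply hLD
      intro l hl
      refine mem_centralizer_of_perfect (IsComponent.commutator_self hD) fun d hd => ?_
      have hld : l * d * l⁻¹ ∈ D := ((hLN hl) d).mp hd
      refine mem_map_center_iff.mpr ⟨mul_mem hld (inv_mem hd), fun e he => ?_⟩
      have h1 := h l hl _ (hχC ⟨⟨d, hd⟩, rfl⟩)
      have hld' : l * (t * d * t⁻¹) * l⁻¹ ∈ D' :=
        ((IsComponent.layer_le_normalizer hD'c (hLE hl)) _).mp (hmem' d hd)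
      have hprod : (l * d * l⁻¹) * (l * (t * d * t⁻¹) * l⁻¹) = d * (t * d * t⁻¹) := by
        have h2 : l * (d * (t * d * t⁻¹)) * l⁻¹ = d * (t * d * t⁻¹) := mul_inv_eq_iff_eq_mul.mpr h1
        rw [← h2]; group
      have h3 : d⁻¹ * (l * d * l⁻¹) = (t * d * t⁻¹) * (l * (t * d * t⁻¹) * l⁻¹)⁻¹ := by
        rw [← inv_mul_eq_iff_eq_mul.mpr hprod.symm]; group
      have hz := hint _ (mul_mem (inv_mem hd) hld) (h3 ▸ mul_mem (hmem' d hd) (inv_mem hld'))
      have h4 : l * d * l⁻¹ * d⁻¹ = d⁻¹ * (l * d * l⁻¹) := by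
        have := mem_centralizer_iff.mp hz d hd
        rw [mul_inv_cancel_left] at this
        calc l * d * l⁻¹ * d⁻¹ = d⁻¹ * (l * d * l⁻¹) * d * d⁻¹ := by rw [← this]
          _ = _ := by rw [mul_inv_cancel_right]
      rw [h4]
      exact mem_centralizer_iff.mp hz e he

end Cfsg.Agent.Lib.LBalance
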